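import Cfsg.Agent.H03.BG1

/-! closed instance of `BG.T1_2` -/

universe u

instance BG.closedT1_2 : BG.T1_2.{u} := H03.prfT1_2
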