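import Cfsg.Agent.H24.T27

/-! closed instance of `BG.T2_7` -/

universe u

instance BG.closedT2_7 : BG.T2_7.{u} := H24.prfT2_7
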