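import Cfsg.Agent.H24.T26

/-! closed instance of `BG.T3_4` -/

universe u

instance BG.closedT3_4 : BG.T3_4.{u} := H24.prfT3_4
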