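import Cfsg.Agent.H04.BG4

/-! closed instance of `BG.T4_12` -/

universe u

instance BG.closedT4_12 : BG.T4_12.{u} := H04.prfT4_12
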